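import Groth.Agent.Lib.NoEmbBC.Basic

/-!
# Products of integral schemes over a field have no embedded points
-/

set_option autoImplicit false
set_option linter.style.haveILetI false
set_option backward.isDefEq.respectTransparency false
universe u

open CategoryTheory CategoryTheory.Limits AlgebraicGeometry TensorProduct
open scoped nonZeroDivisors

namespace GrothLib.NoEmbProd

open GrothLib.NoEmbBC

section Ring

variable {k : Type u} [Field k] (A B : Type u) [CommRing A] [IsDomain A] [Algebra k A]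
  [CommRing B] [IsDomain B] [Algebra k B] [IsNoetherianRing (A ⊗[k] B)]

theorem isSMulRegular_left {a : A} (ha : a ≠ 0) : IsSMulRegular (A ⊗[k] B) (a ⊗ₜ[k] (1 : B)) := by
  have h : Function.Injective (LinearMap.rTensor B (LinearMap.mulLeft k a)) :=
    Module.Flat.rTensor_preserves_injective_linearMap _ (mul_right_injective₀ ha)
  intro x y hxy
  apply h
  have key : ∀ z : A ⊗[k] B, LinearMap.rTensor B (LinearMap.mulLeft k a) z = (a ⊗ₜ[k] (1 : B)) • z := fun z => by
    induction z using TensorProduct.induction_on with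
    | zero => simp
    | tmul u v => simp [smul_eq_mul]
    | add u v hu hv => rw [map_add, smul_add, hu, hv]
  rw [key, key]; exact hxy

theorem isSMulRegular_right {b : B} (hb : b ≠ 0) : IsSMulRegular (A ⊗[k] B) ((1 : A) ⊗ₜ[k] b) := by
  have h : Function.Injective (LinearMap.lTensor A (LinearMap.mulLeft k b)) :=
    Module.Flat.lTensor_preserves_injective_linearMap _ (mul_right_injective₀ hb)
  intro x y hxy
  apply h
  have key : ∀ z : A ⊗[k] B, LinearMap.lTensor A (LinearMap.mulLeft k b) z = ((1 : A) ⊗ₜ[k] b) • z := fun z => by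
    induction z using TensorProduct.induction_on with
    | zero => simp
    | tmul u v => simp [smul_eq_mul]
    | add u v hu hv => rw [map_add, smul_add, hu, hv]
  rw [key, key]; exact hxy

/-- Products of nonzero elements of the factors. -/
def denom : Submonoid (A ⊗[k] B) :=
  (A⁰).map (Algebra.TensorProduct.includeLeftRingHom : A →+* A ⊗[k] B) ⊔
    (B⁰).map (Algebra.TensorProduct.includeRight : B →ₐ[k] A ⊗[k] B).toRingHom

theorem tmul_mem_denom {a : A} {b : B} (ha : a ∈ A⁰) (hb : b ∈ B⁰) : a ⊗ₜ[k] b ∈ denom (k := k) A B := by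
  have h := Submonoid.mul_mem_sup (Submonoid.mem_map_of_mem (Algebra.TensorProduct.includeLeftRingHom : A →+* A ⊗[k] B) ha)
    (Submonoid.mem_map_of_mem (Algebra.TensorProduct.includeRight : B →ₐ[k] A ⊗[k] B).toRingHom hb)
  simpa [Algebra.TensorProduct.tmul_mul_tmul, denom] using h

/-- The map to the tensor product of the fraction fields. -/
noncomputable def toFrac : A ⊗[k] B →ₐ[k] FractionRing A ⊗[k] FractionRing B :=
  Algebra.TensorProduct.map (IsScalarTower.toAlgHom k A (FractionRing A)) (IsScalarTower.toAlgHom k B (FractionRing B))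

theorem toFrac_injective : Function.Injective (toFrac (k := k) A B) := by
  have h1 : Function.Injective (LinearMap.rTensor B (IsScalarTower.toAlgHom k A (FractionRing A)).toLinearMap) :=
    Module.Flat.rTensor_preserves_injective_linearMap _ (IsFractionRing.injective A (FractionRing A))
  have h2 : Function.Injective (LinearMap.lTensor (FractionRing A) (IsScalarTower.toAlgHom k B (FractionRing B)).toLinearMap) :=
    Module.Flat.lTensor_preserves_injective_linearMap _ (IsFractionRing.injective B (FractionRing B))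
  have key : ∀ z, toFrac (k := k) A B z = LinearMap.lTensor (FractionRing A) (IsScalarTower.toAlgHom k B (FractionRing B)).toLinearMap
      (LinearMap.rTensor B (IsScalarTower.toAlgHom k A (FractionRing A)).toLinearMap z) := fun z => by
    induction z using TensorProduct.induction_on with
    | zero => simp
    | tmul u v => simp [toFrac]
    | add u v hu hv => simp only [map_add, hu, hv]
  intro x y hxy
  rw [key, key] at hxy
  exact h1 (h2 hxy)

theorem isLocalization_toFrac :
    letI := (toFrac (k := k) A B).toRingHom.toAlgebra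
    IsLocalization (denom (k := k) A B) (FractionRing A ⊗[k] FractionRing B) := by
  letI := (toFrac (k := k) A B).toRingHom.toAlgebra
  refine ⟨?_, ?_, fun {x y} h => ⟨1, by rw [toFrac_injective A B h]⟩⟩
  · rintro ⟨z, hz⟩
    have hle : denom (k := k) A B ≤ (IsUnit.submonoid _).comap (toFrac (k := k) A B).toRingHom.toMonoidHom := by
      refine sup_le ?_ ?_
      · rintro _ ⟨a, ha, rfl⟩
        show IsUnit (toFrac (k := k) A B (a ⊗ₜ[k] (1 : B)))
        rw [toFrac, Algebra.TensorProduct.map_tmul, map_one]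
        exact (IsLocalization.map_units (FractionRing A) (⟨a, ha⟩ : A⁰)).map
          (Algebra.TensorProduct.includeLeftRingHom : FractionRing A →+* FractionRing A ⊗[k] FractionRing B)
      · rintro _ ⟨b, hb, rfl⟩
        show IsUnit (toFrac (k := k) A B ((1 : A) ⊗ₜ[k] b))
        rw [toFrac, Algebra.TensorProduct.map_tmul, map_one]
        exact (IsLocalization.map_units (FractionRing B) (⟨b, hb⟩ : B⁰)).map
          (Algebra.TensorProduct.includeRight : FractionRing B →ₐ[k] FractionRing A ⊗[k] FractionRing B).toRingHom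
    exact hle hz
  · intro z
    induction z using TensorProduct.induction_on with
    | zero => exact ⟨(0, 1), by simp⟩
    | tmul u v =>
      obtain ⟨⟨a, s⟩, hu⟩ := IsLocalization.surj A⁰ u
      obtain ⟨⟨b, t⟩, hv⟩ := IsLocalization.surj B⁰ v
      refine ⟨(a ⊗ₜ[k] b, ⟨(s : A) ⊗ₜ[k] (t : B), tmul_mem_denom A B s.2 t.2⟩), ?_⟩
      show (u ⊗ₜ[k] v) * toFrac (k := k) A B ((s : A) ⊗ₜ[k] (t : B)) = toFrac (k := k) A B (a ⊗ₜ[k] b)
      simp only [toFrac, Algebra.TensorProduct.map_tmul, IsScalarTower.coe_toAlgHom', Algebra.TensorProduct.tmul_mul_tmul]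
      exact congrArg₂ (· ⊗ₜ[k] ·) hu hv
    | add x y hx hy =>
      obtain ⟨⟨a, s⟩, hx⟩ := hx
      obtain ⟨⟨b, t⟩, hy⟩ := hy
      refine ⟨(a * t + b * s, s * t), ?_⟩
      simp only [Submonoid.coe_mul, map_add, map_mul] at *
      linear_combination (algebraMap _ (FractionRing A ⊗[k] FractionRing B) (t : A ⊗[k] B)) * hx +
        (algebraMap _ (FractionRing A ⊗[k] FractionRing B) (s : A ⊗[k] B)) * hy

theorem noEmb_tensor : NoEmb (A ⊗[k] B) := by
  intro q hq
  haveI := hq.isPrime
  obtain ⟨-, z, hz⟩ := AssFib.mem_ass_iff.1 (mem_ass_iff_mem.2 hq)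
  have hz0 : z ≠ 0 := fun h => hq.isPrime.ne_top ((Ideal.eq_top_iff_one q).2 ((hz 1).2 (by rw [h, smul_zero])))
  have hle : denom (k := k) A B ≤ q.primeCompl := by
    refine sup_le ?_ ?_
    · rintro _ ⟨a, ha, rfl⟩ hmem
      exact hz0 ((isSMulRegular_left A B (nonZeroDivisors.ne_zero ha)).right_eq_zero_of_smul ((hz _).1 hmem))
    · rintro _ ⟨b, hb, rfl⟩ hmem
      exact hz0 ((isSMulRegular_right A B (nonZeroDivisors.ne_zero hb)).right_eq_zero_of_smul ((hz _).1 hmem))
  letI := (toFrac (k := k) A B).toRingHom.toAlgebra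
  let L := FractionRing A ⊗[k] FractionRing B
  haveI : IsLocalization (denom (k := k) A B) L := isLocalization_toFrac A B
  haveI : IsNoetherianRing L := IsLocalization.isNoetherianRing (denom (k := k) A B) L inferInstance
  have hd : ∀ r : Ideal (A ⊗[k] B), r ≤ q → Disjoint (denom (k := k) A B : Set (A ⊗[k] B)) (r : Set (A ⊗[k] B)) :=
    fun r hr => Set.disjoint_left.2 fun x hx hx' => hle hx (hr hx')
  have hc : ∀ r : Ideal (A ⊗[k] B), r.IsPrime → r ≤ q →
      (r.map (algebraMap (A ⊗[k] B) L)).comap (algebraMap (A ⊗[k] B) L) = r := fun r hr hrq =>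
    IsLocalization.comap_map_of_isPrime_disjoint (denom (k := k) A B) L hr (hd r hrq)
  have hQ : q.map (algebraMap (A ⊗[k] B) L) ∈ associatedPrimes L L :=
    Module.associatedPrimes.mem_associatedPrimes_of_comap_mem_associatedPrimes_of_isLocalizedModule
      (denom (k := k) A B) (Algebra.linearMap (A ⊗[k] B) L) _ ((hc q inferInstance le_rfl).symm ▸ hq)
  have hmin : q.map (algebraMap (A ⊗[k] B) L) ∈ minimalPrimes L := FBase7.associatedPrimes_subset_minimalPrimes hQ
  refine ⟨⟨inferInstance, bot_le⟩, fun r hr hrq => ?_⟩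
  have hp := IsLocalization.isPrime_of_isPrime_disjoint (denom (k := k) A B) L r hr.1 (hd r hrq)
  have := Ideal.comap_mono (f := algebraMap (A ⊗[k] B) L) (hmin.2 ⟨hp, bot_le⟩ (Ideal.map_mono hrq))
  rwa [hc r hr.1 hrq, hc q inferInstance le_rfl] at this

end Ring

theorem noEmbedded_pullback {k : Type u} [Field k] {X Y : Scheme.{u}}
    (f : X ⟶ Spec (CommRingCat.of k)) (g : Y ⟶ Spec (CommRingCat.of k)) [IsIntegral X] [IsIntegral Y]
    [IsLocallyNoetherian (pullback f g)] : AssSch.NoEmbedded (Coh.structureModule (pullback f g)) := by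
  let I := {p : X.affineOpens × Y.affineOpens // Nonempty (p.1 : X.Opens) ∧ Nonempty (p.2 : Y.Opens)}
  have hchart : ∀ i : I, ∃ W : (pullback f g).Opens, IsAffineOpen W ∧
      (∀ z, pullback.fst f g z ∈ (i.1.1 : X.Opens) → pullback.snd f g z ∈ (i.1.2 : Y.Opens) → z ∈ W) ∧
      NoEmb Γ(pullback f g, W) := by
    rintro ⟨⟨⟨U, hU⟩, ⟨V, hV⟩⟩, hnU, hnV⟩
    haveI : Nonempty U := hnU
    haveI : Nonempty V := hnV
    haveI := hU.isOpenImmersion_fromSpec
    haveI := hV.isOpenImmersion_fromSpec
    letI := (Spec.preimage (hU.fromSpec ≫ f)).hom.toAlgebra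
    letI := (Spec.preimage (hV.fromSpec ≫ g)).hom.toAlgebra
    have ha : hU.fromSpec ≫ f = Spec.map (CommRingCat.ofHom (algebraMap k Γ(X, U))) := (Spec.map_preimage _).symm
    have hb : hV.fromSpec ≫ g = Spec.map (CommRingCat.ofHom (algebraMap k Γ(Y, V))) := (Spec.map_preimage _).symm
    let κ : pullback (Spec.map (CommRingCat.ofHom (algebraMap k Γ(X, U)))) (Spec.map (CommRingCat.ofHom (algebraMap k Γ(Y, V)))) ⟶ pullback f g :=
      pullback.map _ _ _ _ hU.fromSpec hV.fromSpec (𝟙 _) (by rw [Category.comp_id]; exact ha.symm) (by rw [Category.comp_id]; exact hb.symm)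
    have hrange : Set.range κ = pullback.fst f g ⁻¹' Set.range hU.fromSpec ∩ pullback.snd f g ⁻¹' Set.range hV.fromSpec :=
      Scheme.Pullback.range_map _ _ _ _ _ _ _ _ _
    haveI : IsOpenImmersion κ := inferInstance
    let j := (pullbackSpecIso k Γ(X, U) Γ(Y, V)).inv ≫ κ
    haveI : IsOpenImmersion j := inferInstance
    let e : (Γ(X, U) ⊗[k] Γ(Y, V)) ≃+* Γ(pullback f g, j.opensRange) := ((Scheme.ΓSpecIso _).symm ≪≫ (j.appIso ⊤).symm ≪≫
      (pullback f g).presheaf.mapIso (eqToIso j.image_top_eq_opensRange.symm).op).commRingCatIsoToRingEquiv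
    haveI : IsNoetherianRing Γ(pullback f g, j.opensRange) :=
      IsLocallyNoetherian.component_noetherian ⟨_, isAffineOpen_opensRange j⟩
    haveI : IsNoetherianRing (Γ(X, U) ⊗[k] Γ(Y, V)) := isNoetherianRing_of_ringEquiv _ e.symm
    refine ⟨j.opensRange, isAffineOpen_opensRange j, fun z hz hz' => ?_, noEmb_of_ringEquiv e (noEmb_tensor _ _)⟩
    obtain ⟨w, rfl⟩ : z ∈ Set.range κ := hrange ▸ ⟨hU.range_fromSpec.symm ▸ hz, hV.range_fromSpec.symm ▸ hz'⟩
    refine ⟨(pullbackSpecIso k Γ(X, U) Γ(Y, V)).hom w, ?_⟩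
    have e' : (pullbackSpecIso k Γ(X, U) Γ(Y, V)).hom ≫ j = κ := Iso.hom_inv_id_assoc _ _
    show j ((pullbackSpecIso k Γ(X, U) Γ(Y, V)).hom w) = κ w
    exact congrArg (fun m => m w) e'
  choose W hW hWmem hWn using hchart
  refine noEmbedded_of_cover W hW (fun z => ?_) hWn
  obtain ⟨U, hU, hzU, -⟩ := exists_isAffineOpen_mem_and_subset (x := pullback.fst f g z) (U := (⊤ : X.Opens)) (TopologicalSpace.Opens.mem_top _)
  obtain ⟨V, hV, hzV, -⟩ := exists_isAffineOpen_mem_and_subset (x := pullback.snd f g z) (U := (⊤ : Y.Opens)) (TopologicalSpace.Opens.mem_top _)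
  exact ⟨⟨⟨⟨U, hU⟩, ⟨V, hV⟩⟩, ⟨⟨_, hzU⟩⟩, ⟨⟨_, hzV⟩⟩⟩, hWmem _ z hzU hzV⟩

end GrothLib.NoEmbProd
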